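import Groth.Agent.Hensel.SmoothLift
import Mathlib.RingTheory.Smooth.Basic
import Mathlib.RingTheory.FinitePresentation

/-!
Solutions of infinitesimally liftable polynomial systems lift over henselian pairs.
-/

universe u v w

set_option linter.style.haveILetI false

namespace Groth.Agent.BrauerXAz

open MvPolynomial

/-- A finite polynomial system whose solutions lift along all square-zero extensions has all its
solutions modulo a henselian ideal lift. -/
theorem exists_solution_of_infinitesimal {R : Type u} [CommRing R] (I : Ideal R) [HenselianRing R I]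
    {ι : Type u} [Finite ι] {κ : Type v} [Finite κ] (F : κ → MvPolynomial ι R)
    (hF : ∀ (B : Type u) [CommRing B] [Algebra R B] (J : Ideal B), J ^ 2 = ⊥ →
      ∀ c : ι → B, (∀ k, aeval c (F k) ∈ J) → ∃ c' : ι → B, (∀ i, c' i - c i ∈ J) ∧
        ∀ k, aeval c' (F k) = 0)
    (a : ι → R) (ha : ∀ k, eval a (F k) ∈ I) :
    ∃ b : ι → R, (∀ i, b i - a i ∈ I) ∧ ∀ k, eval b (F k) = 0 := by
  classical
  let K : Ideal (MvPolynomial ι R) := Ideal.span (Set.range F)
  have hKfg : K.FG := Submodule.fg_span (Set.finite_range F)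
  haveI : Algebra.FinitePresentation R (MvPolynomial ι R ⧸ K) :=
    Algebra.FinitePresentation.quotient hKfg
  haveI : Algebra.FormallySmooth R (MvPolynomial ι R ⧸ K) := by
    rw [Algebra.FormallySmooth.iff_comp_surjective]
    intro B _ _ J hJ f
    choose c hc using fun i => Ideal.Quotient.mk_surjective (f (Ideal.Quotient.mk K (X i)))
    have hfg : (Ideal.Quotient.mkₐ R J).comp (aeval c) = f.comp (Ideal.Quotient.mkₐ R K) :=
      MvPolynomial.algHom_ext fun i => by simp [hc]
    obtain ⟨c', hc', hc0⟩ := hF B J hJ c fun k => by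
      rw [← Ideal.Quotient.eq_zero_iff_mem]
      have := DFunLike.congr_fun hfg (F k)
      simp only [AlgHom.coe_comp, Function.comp_apply, Ideal.Quotient.mkₐ_eq_mk] at this
      rw [this, Ideal.Quotient.eq_zero_iff_mem.2 (Ideal.subset_span (Set.mem_range_self k)),
        map_zero]
    refine ⟨Ideal.Quotient.liftₐ K (aeval c') ?_, ?_⟩
    · intro p hp
      refine (Ideal.span_le.2 ?_ : K ≤ RingHom.ker (aeval (R := R) c')) hp
      rintro _ ⟨k, rfl⟩
      exact hc0 k
    · refine Ideal.Quotient.algHom_ext _ (MvPolynomial.algHom_ext fun i => ?_)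
      simp only [AlgHom.coe_comp, Function.comp_apply, Ideal.Quotient.mkₐ_eq_mk, ← hc,
        Ideal.Quotient.eq]
      show aeval c' (X i) - c i ∈ J
      rw [aeval_X]
      exact hc' i
  haveI : Algebra.Smooth R (MvPolynomial ι R ⧸ K) := ⟨inferInstance, inferInstance⟩
  let σ : (MvPolynomial ι R ⧸ K) →ₐ[R] R ⧸ I :=
    Ideal.Quotient.liftₐ K ((Ideal.Quotient.mkₐ R I).comp (aeval a)) fun p hp => by
      refine (Ideal.span_le.2 ?_ : K ≤ RingHom.ker
        ((Ideal.Quotient.mkₐ R I).comp (aeval (R := R) a))) hp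
      rintro _ ⟨k, rfl⟩
      exact Ideal.Quotient.eq_zero_iff_mem.2 (by simpa [aeval_eq_eval] using ha k)
  obtain ⟨τ, hτ⟩ := Hensel.exists_smooth_lift I σ
  refine ⟨fun i => τ (Ideal.Quotient.mk K (X i)), fun i => ?_, fun k => ?_⟩
  · rw [← Ideal.Quotient.eq]
    have := DFunLike.congr_fun hτ (Ideal.Quotient.mk K (X i))
    refine this.trans ?_
    show Ideal.Quotient.mk I (aeval a (X i)) = _
    rw [aeval_X]
  · have h : (τ.comp (Ideal.Quotient.mkₐ R K)) = aeval fun i => τ (Ideal.Quotient.mk K (X i)) :=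
      MvPolynomial.algHom_ext fun i => by simp
    have h' := DFunLike.congr_fun h (F k)
    rw [aeval_eq_eval] at h'
    rw [← h']
    show τ (Ideal.Quotient.mk K (F k)) = 0
    rw [show Ideal.Quotient.mk K (F k) = 0 from
      Ideal.Quotient.eq_zero_iff_mem.2 (Ideal.subset_span (Set.mem_range_self k)), map_zero]

end Groth.Agent.BrauerXAz
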