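import Groth.Agent.BrauerXAz.Deform
import Groth.Agent.BrauerXAz.Points
import Groth.Agent.AzumayaX.Fibres
import Groth.Agent.CSALib.Basic
import Mathlib.LinearAlgebra.Determinant
import Mathlib.LinearAlgebra.Matrix.ToLinearEquiv
import Mathlib.RingTheory.TensorProduct.Free
import Mathlib.LinearAlgebra.Basis.VectorSpace

/-!
Central simple algebras over the residue field of a henselian local ring lift to Azumaya algebras.
-/

universe u v w

set_option linter.style.haveILetI false

namespace Groth.Agent.BrauerXAz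

open TensorProduct

section Mul

variable {S : Type u} [CommRing S] {V : Type v} [AddCommGroup V] [Module S V] {ι : Type w} [Fintype ι]
  (b : Module.Basis ι S V)

/-- The multiplication with given structure constants. -/
noncomputable def mulMap (c : ι → ι → ι → S) : V →ₗ[S] V →ₗ[S] V :=
  b.constr S fun i => b.constr S fun j => ∑ l, c i j l • b l

theorem mulMap_basis (c : ι → ι → ι → S) (i j : ι) : mulMap b c (b i) (b j) = ∑ l, c i j l • b l := by
  rw [mulMap, b.constr_basis, b.constr_basis]

theorem repr_mulMap (c : ι → ι → ι → S) (i j l : ι) :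
    b.repr (mulMap b c (b i) (b j)) l = c i j l := by
  classical
  simp [mulMap_basis, Finsupp.single_apply]

theorem repr_mulMap₂ (c : ι → ι → ι → S) (i j k l : ι) :
    b.repr (mulMap b c (mulMap b c (b i) (b j)) (b k)) l = ∑ m, c i j m * c m k l := by
  classical
  simp [mulMap_basis, Finsupp.single_apply]

theorem repr_mulMap₂' (c : ι → ι → ι → S) (i j k l : ι) :
    b.repr (mulMap b c (b i) (mulMap b c (b j) (b k))) l = ∑ m, c j k m * c i m l := by
  classical
  simp [mulMap_basis, Finsupp.single_apply]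

theorem mulMap_repr (μ : V →ₗ[S] V →ₗ[S] V) :
    mulMap b (fun i j l => b.repr (μ (b i) (b j)) l) = μ :=
  b.ext fun i => b.ext fun j => by rw [mulMap_basis]; exact b.sum_repr _

/-- The matrix of the sandwich map. -/
def sandwichMatrix (c : ι → ι → ι → S) : Matrix (ι × ι) (ι × ι) S :=
  Matrix.of fun p q => ∑ m, c q.1 p.1 m * c m q.2 p.2

theorem sandwichMatrix_map {T : Type*} [CommRing T] (f : S →+* T) (c : ι → ι → ι → S) :
    (sandwichMatrix c).map f = sandwichMatrix fun i j l => f (c i j l) := by
  ext p q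
  simp [sandwichMatrix]

/-- Endomorphisms as matrices, in the coordinates of the sandwich matrix. -/
noncomputable def endCoords [DecidableEq ι] : (V →ₗ[S] V) ≃ₗ[S] (ι × ι → S) :=
  (b.constr S).symm.trans
    ((LinearEquiv.piCongrRight fun _ => b.equivFun).trans (LinearEquiv.curry S S ι ι).symm)

theorem endCoords_apply [DecidableEq ι] (F : V →ₗ[S] V) (p : ι × ι) :
    endCoords b F p = b.repr (F (b p.1)) p.2 := by
  obtain ⟨x, y⟩ := p
  simp [endCoords, Module.Basis.constr, Module.Basis.equivFun_apply]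

theorem toMatrix_sandwich [DecidableEq ι] (c : ι → ι → ι → S) :
    LinearMap.toMatrix (b.tensorProduct b) (Pi.basisFun S (ι × ι))
      ((endCoords b).toLinearMap ∘ₗ sandwichMap (mulMap b c)) = sandwichMatrix c := by
  ext p q
  rw [LinearMap.toMatrix_apply, Module.Basis.tensorProduct_apply', Pi.basisFun_repr,
    LinearMap.comp_apply, LinearEquiv.coe_coe, endCoords_apply, sandwichMap_tmul, repr_mulMap₂]
  rfl

theorem sandwich_bijective [DecidableEq ι] (c : ι → ι → ι → S) (h : IsUnit (sandwichMatrix c).det) :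
    Function.Bijective (sandwichMap (mulMap b c)) := by
  rw [← toMatrix_sandwich b c] at h
  have he : Function.Bijective ((endCoords b).toLinearMap ∘ₗ sandwichMap (mulMap b c)) :=
    (LinearEquiv.ofIsUnitDet h).bijective
  have : ⇑(sandwichMap (mulMap b c)) =
      (endCoords b).symm ∘ ((endCoords b).toLinearMap ∘ₗ sandwichMap (mulMap b c)) := by
    funext z; simp
  rw [this]
  exact (endCoords b).symm.bijective.comp he

theorem isUnit_det_of_bijective [DecidableEq ι] (c : ι → ι → ι → S)
    (h : Function.Bijective (sandwichMap (mulMap b c))) : IsUnit (sandwichMatrix c).det := by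
  rw [← toMatrix_sandwich b c]
  exact ((LinearEquiv.ofBijective _ h).trans (endCoords b)).isUnit_det (b.tensorProduct b)
    (Pi.basisFun S (ι × ι))

theorem mulMap_left_one {c : ι → ι → ι → S} {o : ι} [DecidableEq ι]
    (h : ∀ j l, c o j l = if l = j then 1 else 0) (x : V) : mulMap b c (b o) x = x := by
  have : mulMap b c (b o) = LinearMap.id := b.ext fun j => by simp [mulMap_basis, h]
  rw [this, LinearMap.id_apply]

theorem mulMap_right_one {c : ι → ι → ι → S} {o : ι} [DecidableEq ι]
    (h : ∀ j l, c j o l = if l = j then 1 else 0) (x : V) : mulMap b c x (b o) = x := by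
  have : (mulMap b c).flip (b o) = LinearMap.id := b.ext fun j => by simp [mulMap_basis, h]
  exact LinearMap.congr_fun this x

end Mul

section Equations

open MvPolynomial

variable {R : Type u} [CommRing R] {ι : Type u} [Fintype ι] [DecidableEq ι] (o : ι)

/-- The equations of unital associative multiplications with invertible sandwich matrix. -/
noncomputable def algEqs :
    (ι × ι × ι × ι) ⊕ ((ι × ι) ⊕ (ι × ι) ⊕ Unit) → MvPolynomial ((ι × ι × ι) ⊕ PUnit.{u+1}) R
  | .inl (i, j, k, l) => (∑ m, X (.inl (i, j, m)) * X (.inl (m, k, l))) -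
      ∑ m, X (.inl (j, k, m)) * X (.inl (i, m, l))
  | .inr (.inl (j, l)) => X (.inl (o, j, l)) - if l = j then 1 else 0
  | .inr (.inr (.inl (j, l))) => X (.inl (j, o, l)) - if l = j then 1 else 0
  | .inr (.inr (.inr _)) => (sandwichMatrix fun i j l => X (.inl (i, j, l))).det * X (.inr .unit) - 1

/-- The structure constants of a point. -/
def pointConst {S : Type*} (c : (ι × ι × ι) ⊕ PUnit.{u+1} → S) : ι → ι → ι → S :=
  fun i j l => c (.inl (i, j, l))

theorem aeval_det {S : Type*} [CommRing S] [Algebra R S] (c : (ι × ι × ι) ⊕ PUnit.{u+1} → S) :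
    aeval c (sandwichMatrix fun i j l => (X (.inl (i, j, l)) : MvPolynomial _ R)).det =
      (sandwichMatrix (pointConst c)).det := by
  rw [AlgHom.map_det]
  congr 1
  show (sandwichMatrix _).map (aeval c).toRingHom = _
  rw [sandwichMatrix_map]
  congr 1
  funext i j l
  exact aeval_X c _

theorem algEqs_infinitesimal (S : Type u) [CommRing S] [Algebra R S] (J : Ideal S) (hJ : J ^ 2 = ⊥)
    (c : (ι × ι × ι) ⊕ PUnit.{u+1} → S) (hc : ∀ k, aeval c (algEqs (R := R) o k) ∈ J) :
    ∃ c' : (ι × ι × ι) ⊕ PUnit.{u+1} → S, (∀ i, c' i - c i ∈ J) ∧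
      ∀ k, aeval c' (algEqs (R := R) o k) = 0 := by
  -- normalise the unit
  let c₁ : ι → ι → ι → S := fun i j l =>
    if i = o then (if l = j then 1 else 0) else if j = o then (if l = i then 1 else 0) else
      pointConst c i j l
  have hc₁ : ∀ i j l, c₁ i j l - pointConst c i j l ∈ J := by
    intro i j l
    simp only [c₁, pointConst]
    split_ifs with h1 h2 h3 h4
    all_goals try subst h1
    · simpa [algEqs, h2] using J.neg_mem (hc (.inr (.inl (j, l))))
    · simpa [algEqs, h2] using J.neg_mem (hc (.inr (.inl (j, l))))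
    · subst h3; simpa [algEqs, h4] using J.neg_mem (hc (.inr (.inr (.inl (i, l)))))
    · subst h3; simpa [algEqs, h4] using J.neg_mem (hc (.inr (.inr (.inl (i, l)))))
    · simp
  have hl : ∀ j l, c₁ o j l = if l = j then 1 else 0 := fun j l => by simp [c₁]
  have hr : ∀ j l, c₁ j o l = if l = j then 1 else 0 := fun j l => by
    rcases eq_or_ne j o with rfl | h
    · simp [c₁]
    · simp [c₁, h]
  let bS := Pi.basisFun S ι
  have hq : ∀ i j l, Ideal.Quotient.mk J (c₁ i j l) = Ideal.Quotient.mk J (pointConst c i j l) :=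
    fun i j l => Ideal.Quotient.eq.2 (hc₁ i j l)
  have hassoc : ∀ x y z, mulMap bS c₁ (mulMap bS c₁ x y) z - mulMap bS c₁ x (mulMap bS c₁ y z) ∈
      (J • ⊤ : Submodule S (ι → S)) := by
    intro x y z
    rw [← bS.sum_repr x, ← bS.sum_repr y, ← bS.sum_repr z]
    simp only [map_sum, map_smul, LinearMap.sum_apply, LinearMap.smul_apply, Finset.smul_sum,
      ← Finset.sum_sub_distrib, ← smul_sub]
    refine Submodule.sum_mem _ fun k _ => Submodule.sum_mem _ fun j _ => Submodule.sum_mem _ fun i _ => ?_
    refine Submodule.smul_mem _ _ (Submodule.smul_mem _ _ (Submodule.smul_mem _ _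
      ((mem_smul_top_iff bS J _).2 fun l => ?_)))
    rw [map_sub, Finsupp.sub_apply, repr_mulMap₂, repr_mulMap₂', ← Ideal.Quotient.eq_zero_iff_mem]
    have := Ideal.Quotient.eq_zero_iff_mem.2 (hc (.inl (i, j, k, l)))
    simpa [algEqs, hq, pointConst] using this
  have hdet : (sandwichMatrix c₁).det * c (.inr .unit) - 1 ∈ J := by
    have h := Ideal.Quotient.eq_zero_iff_mem.2 (hc (.inr (.inr (.inr ()))))
    rw [algEqs, map_sub, map_mul, map_one, aeval_X, aeval_det, map_sub, map_mul, RingHom.map_det,
      RingHom.mapMatrix_apply, sandwichMatrix_map] at h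
    rw [← Ideal.Quotient.eq_zero_iff_mem, map_sub, map_mul, RingHom.map_det,
      RingHom.mapMatrix_apply, sandwichMatrix_map]
    simpa [hq] using h
  have hunit : ∀ s : S, s - 1 ∈ J → IsUnit s := fun s hs => by
    have h2 : (s - 1) * (s - 1) = 0 := by
      rw [← Ideal.mem_bot, ← hJ, pow_two]; exact Ideal.mul_mem_mul hs hs
    exact IsUnit.of_mul_eq_one (2 - s) (by linear_combination -h2)
  obtain ⟨μ, hμl, hμr, hμa, hμ⟩ := exists_assoc_deform bS o J hJ (mulMap bS c₁)
    (mulMap_left_one bS hl) (mulMap_right_one bS hr) hassoc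
    (sandwich_bijective bS c₁ (IsUnit.mul_iff.1 (hunit _ hdet)).1)
  let c₂ : ι → ι → ι → S := fun i j l => bS.repr (μ (bS i) (bS j)) l
  have hc₂ : ∀ i j l, c₂ i j l - pointConst c i j l ∈ J := fun i j l => by
    have h := (mem_smul_top_iff bS J _).1 (hμ (bS i) (bS j)) l
    rw [map_sub, Finsupp.sub_apply, repr_mulMap] at h
    have := J.add_mem h (hc₁ i j l)
    simpa [c₂] using this
  have hq₂ : ∀ i j l, Ideal.Quotient.mk J (c₂ i j l) = Ideal.Quotient.mk J (c₁ i j l) := fun i j l =>
    (Ideal.Quotient.eq.2 (hc₂ i j l)).trans (hq i j l).symm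
  have hdq : Ideal.Quotient.mk J (sandwichMatrix c₂).det = Ideal.Quotient.mk J (sandwichMatrix c₁).det := by
    rw [RingHom.map_det, RingHom.map_det, RingHom.mapMatrix_apply, RingHom.mapMatrix_apply,
      sandwichMatrix_map, sandwichMatrix_map]
    simp [hq₂]
  have hdet₂ : (sandwichMatrix c₂).det * c (.inr .unit) - 1 ∈ J := by
    rw [← Ideal.Quotient.eq_zero_iff_mem] at hdet ⊢
    rw [map_sub, map_mul, hdq, ← map_mul, ← map_sub, hdet]
  obtain ⟨t, ht⟩ := (IsUnit.mul_iff.1 (hunit _ hdet₂)).1.exists_right_inv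
  refine ⟨Sum.elim (fun p => c₂ p.1 p.2.1 p.2.2) fun _ => t, ?_, ?_⟩
  · rintro (⟨i, j, l⟩ | ⟨⟩)
    · exact hc₂ i j l
    · show t - c (.inr .unit) ∈ J
      have : t - c (.inr .unit) = -(t * ((sandwichMatrix c₂).det * c (.inr .unit) - 1)) := by
        linear_combination (c (.inr PUnit.unit)) * ht
      rw [this]
      exact J.neg_mem (J.mul_mem_left _ hdet₂)
  · have hμeq : mulMap bS c₂ = μ := mulMap_repr bS μ
    rintro (⟨i, j, k, l⟩ | ⟨j, l⟩ | ⟨j, l⟩ | _)
    · have h := congrArg (fun v => bS.repr v l) (hμa (bS i) (bS j) (bS k))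
      simp only [← hμeq, repr_mulMap₂, repr_mulMap₂'] at h
      simpa [algEqs, sub_eq_zero] using h
    · by_cases h : l = j <;>
        simp [algEqs, h, c₂, hμl, Finsupp.single_apply, Ne.symm]
    · by_cases h : l = j <;>
        simp [algEqs, h, c₂, hμr, Finsupp.single_apply, Ne.symm]
    · rw [algEqs, map_sub, map_mul, map_one, aeval_X, aeval_det, sub_eq_zero]
      exact ht

end Equations

theorem exists_basis_one (k : Type u) [Field k] (A : Type u) [Ring A] [Algebra k A] [Nontrivial A]
    [FiniteDimensional k A] :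
    ∃ (ι : Type u) (_ : Fintype ι) (_ : DecidableEq ι) (b : Module.Basis ι k A) (o : ι), b o = 1 := by
  classical
  have hs : LinearIndepOn k id ({1} : Set A) := LinearIndepOn.singleton (R := k) one_ne_zero
  let b := Module.Basis.extend hs
  haveI : Finite (hs.extend (Set.subset_univ ({1} : Set A))) := Module.Finite.finite_basis b
  exact ⟨_, Fintype.ofFinite _, inferInstance, b,
    ⟨1, hs.subset_extend _ (Set.mem_singleton 1)⟩, Module.Basis.extend_apply_self hs _⟩

theorem exists_azumaya_lift {R : Type u} [CommRing R] [HenselianLocalRing R] (A₀ : Type u) [Ring A₀]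
    [Algebra (IsLocalRing.ResidueField R) A₀] [Algebra.IsCentral (IsLocalRing.ResidueField R) A₀]
    [IsSimpleRing A₀] [FiniteDimensional (IsLocalRing.ResidueField R) A₀] :
    ∃ (A : Type u) (_ : Ring A) (_ : Algebra R A), IsAzumaya R A ∧
      Nonempty ((IsLocalRing.ResidueField R ⊗[R] A) ≃ₐ[IsLocalRing.ResidueField R] A₀) := by
  obtain ⟨ι, _, _, b, o, hbo⟩ := exists_basis_one (IsLocalRing.ResidueField R) A₀
  let res := IsLocalRing.residue R
  let c₀ : ι → ι → ι → IsLocalRing.ResidueField R := fun i j l => b.repr (b i * b j) l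
  have hμ₀ : mulMap b c₀ = LinearMap.mul (IsLocalRing.ResidueField R) A₀ :=
    b.ext fun i => b.ext fun j => by rw [mulMap_basis]; exact b.sum_repr _
  have hbij : Function.Bijective (sandwichMap (mulMap b c₀)) := by
    let L := AlgHom.mulLeftRight (IsLocalRing.ResidueField R) A₀
    have h : sandwichMap (mulMap b c₀) = L.toLinearMap ∘ₗ
        (LinearEquiv.lTensor A₀ (MulOpposite.opLinearEquiv (IsLocalRing.ResidueField R) (M := A₀))).toLinearMap := by
      rw [hμ₀]
      refine TensorProduct.ext' fun x y => LinearMap.ext fun z => ?_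
      simp [L, sandwichMap_tmul]
    rw [h]
    exact (CSALib.mulLeftRight_bijective (IsLocalRing.ResidueField R) A₀).comp
      (LinearEquiv.bijective _)
  choose s hs using fun p : (ι × ι × ι) ⊕ PUnit.{u+1} => IsLocalRing.residue_surjective (R := R)
    (Sum.elim (fun q => c₀ q.1 q.2.1 q.2.2) (fun _ => Ring.inverse (sandwichMatrix c₀).det) p)
  have hsc : pointConst (fun p => res (s p)) = c₀ := by
    funext i j l
    simp [pointConst, res, hs]
  obtain ⟨c, hcs, hc⟩ := exists_solution_of_infinitesimal (IsLocalRing.maximalIdeal R)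
    (algEqs (R := R) o) (fun S _ _ J hJ c hc => algEqs_infinitesimal o S J hJ c hc) s (fun k => by
      rw [← IsLocalRing.residue_eq_zero_iff]
      show algebraMap R (IsLocalRing.ResidueField R) (MvPolynomial.eval s (algEqs o k)) = 0
      rw [← MvPolynomial.aeval_eq_eval, ← MvPolynomial.aeval_algebraMap_apply]
      show MvPolynomial.aeval (fun p => res (s p)) (algEqs o k) = 0
      rcases k with ⟨i, j, k, l⟩ | ⟨j, l⟩ | ⟨j, l⟩ | _
      · have h := congrArg (fun v => b.repr v l)
          (show mulMap b c₀ (mulMap b c₀ (b i) (b j)) (b k) =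
            mulMap b c₀ (b i) (mulMap b c₀ (b j) (b k)) by simp [hμ₀, mul_assoc])
        simp only [repr_mulMap₂, repr_mulMap₂', ← hsc] at h
        simpa [algEqs, sub_eq_zero, pointConst] using h
      · by_cases h : l = j <;> simp [algEqs, h, res, hs, c₀, hbo, Finsupp.single_apply, Ne.symm]
      · by_cases h : l = j <;> simp [algEqs, h, res, hs, c₀, hbo, Finsupp.single_apply, Ne.symm]
      · rw [algEqs, map_sub, map_mul, map_one, MvPolynomial.aeval_X, aeval_det, hsc, sub_eq_zero]
        simp only [res, hs, Sum.elim_inr]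
        exact Ring.mul_inverse_cancel _ (isUnit_det_of_bijective b c₀ hbij))
  let cR := pointConst c
  let bR := Pi.basisFun R ι
  let μ := mulMap bR cR
  have hev : ∀ k, MvPolynomial.aeval c (algEqs (R := R) o k) = 0 := fun k => by
    rw [MvPolynomial.aeval_eq_eval]; exact hc k
  have hl : ∀ x, μ (bR o) x = x := fun x => mulMap_left_one bR (fun j l => by
    have := hev (.inr (.inl (j, l)))
    by_cases h : l = j <;> simp_all [algEqs, cR, pointConst, sub_eq_zero]) x
  have hr : ∀ x, μ x (bR o) = x := fun x => mulMap_right_one bR (fun j l => by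
    have := hev (.inr (.inr (.inl (j, l))))
    by_cases h : l = j <;> simp_all [algEqs, cR, pointConst, sub_eq_zero]) x
  have ha : ∀ x y, μ (μ x y) = μ x ∘ₗ μ y := by
    intro x y
    have h : μ.compr₂ μ = (LinearMap.llcomp R (ι → R) (ι → R) (ι → R)).compl₁₂ μ μ :=
      bR.ext fun i => bR.ext fun j => bR.ext fun k => bR.ext_elem fun l => by
        simp only [LinearMap.compr₂_apply, LinearMap.compl₁₂_apply, LinearMap.llcomp_apply, μ,
          repr_mulMap₂, repr_mulMap₂']
        have := hev (.inl (i, j, k, l))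
        simpa [algEqs, sub_eq_zero, cR, pointConst] using this
    exact LinearMap.congr_fun₂ h x y
  let A : Subalgebra R (Module.End R (ι → R)) :=
    { carrier := Set.range μ
      mul_mem' := by rintro _ _ ⟨x, rfl⟩ ⟨y, rfl⟩; exact ⟨μ x y, ha x y⟩
      one_mem' := ⟨bR o, LinearMap.ext hl⟩
      add_mem' := by rintro _ _ ⟨x, rfl⟩ ⟨y, rfl⟩; exact ⟨x + y, map_add μ x y⟩
      zero_mem' := ⟨0, map_zero μ⟩
      algebraMap_mem' := fun r => ⟨r • bR o, LinearMap.ext fun x => by simp [hl]⟩ }
  let e : (ι → R) ≃ₗ[R] A := LinearEquiv.ofBijective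
    (μ.codRestrict (Subalgebra.toSubmodule A) fun x => ⟨x, rfl⟩)
    ⟨fun x y h => by
      have := LinearMap.congr_fun (congrArg Subtype.val h) (bR o)
      change μ x (bR o) = μ y (bR o) at this
      rwa [hr, hr] at this, fun a => by obtain ⟨_, x, rfl⟩ := a; exact ⟨x, rfl⟩⟩
  let bA := bR.map e
  haveI : Module.Free R A := Module.Free.of_basis bA
  haveI : Module.Finite R A := Module.Finite.of_basis bA
  letI : Algebra R A₀ := Algebra.compHom A₀ res
  haveI : IsScalarTower R (IsLocalRing.ResidueField R) A₀ :=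
    IsScalarTower.of_algebraMap_eq fun _ => rfl
  let ψ₀ : A →ₗ[R] A₀ := bA.constr R fun i => b i
  have hψ1 : ψ₀ 1 = 1 := by
    have : (1 : A) = bA o := Subtype.ext (LinearMap.ext fun x => (hl x).symm)
    rw [this, ← hbo]
    exact bA.constr_basis R _ o
  have hψm : ∀ x y, ψ₀ (x * y) = ψ₀ x * ψ₀ y := by
    intro x y
    have h : (LinearMap.mul R A).compr₂ ψ₀ = (LinearMap.mul R A₀).compl₁₂ ψ₀ ψ₀ :=
      bA.ext fun i => bA.ext fun j => by
        have hij : bA i * bA j = ∑ l, cR i j l • bA l := by
          have h' : bA i * bA j = e (μ (bR i) (bR j)) := Subtype.ext (ha _ _).symm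
          rw [h', show μ (bR i) (bR j) = ∑ l, cR i j l • bR l from mulMap_basis bR cR i j, map_sum]
          simp [bA]
        simp only [LinearMap.compr₂_apply, LinearMap.mul_apply', LinearMap.compl₁₂_apply, hij,
          map_sum, map_smul, ψ₀, Module.Basis.constr_basis]
        conv_rhs => rw [← b.sum_repr (b i * b j)]
        refine Finset.sum_congr rfl fun l _ => ?_
        rw [← algebraMap_smul (IsLocalRing.ResidueField R)]
        congr 1
        have h' := (IsLocalRing.residue_eq_zero_iff _).2 (hcs (.inl (i, j, l)))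
        rw [map_sub, sub_eq_zero, hs] at h'
        exact h'
    exact LinearMap.congr_fun₂ h x y
  let ψ : A →ₐ[R] A₀ := AlgHom.ofLinearMap ψ₀ hψ1 hψm
  let Ψ : IsLocalRing.ResidueField R ⊗[R] A →ₐ[IsLocalRing.ResidueField R] A₀ :=
    Algebra.TensorProduct.lift (Algebra.ofId (IsLocalRing.ResidueField R) A₀) ψ
      (fun x y => (show Commute ((Algebra.ofId (IsLocalRing.ResidueField R) A₀) x) (ψ y) from
        Algebra.commutes x (ψ y)))
  let E := (Algebra.TensorProduct.basis (IsLocalRing.ResidueField R) bA).equiv b (Equiv.refl ι)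
  have hΨE : Ψ.toLinearMap = E.toLinearMap :=
    (Algebra.TensorProduct.basis (IsLocalRing.ResidueField R) bA).ext fun i => by
      rw [LinearEquiv.coe_coe, Module.Basis.equiv_apply, AlgHom.toLinearMap_apply,
        Algebra.TensorProduct.basis_apply]
      show Ψ (1 ⊗ₜ[R] bA i) = b i
      refine (Algebra.TensorProduct.lift_tmul _ _ _ _ _).trans ?_
      rw [map_one, one_mul]
      exact bA.constr_basis R _ i
  have hΨ : Function.Bijective Ψ := by
    have : ⇑Ψ = ⇑E := congrArg DFunLike.coe hΨE
    rw [this]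
    exact E.bijective
  let eΨ := AlgEquiv.ofBijective Ψ hΨ
  haveI := CSALib.isAzumaya (IsLocalRing.ResidueField R) A₀
  haveI : IsAzumaya (IsLocalRing.ResidueField R) (IsLocalRing.ResidueField R ⊗[R] A) :=
    IsAzumaya.of_AlgEquiv _ _ _ eΨ.symm
  exact ⟨A, inferInstance, inferInstance, AzumayaX.isAzumaya_of_residueField A, ⟨eΨ⟩⟩

end Groth.Agent.BrauerXAz
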