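import Mathlib.RingTheory.TensorProduct.Basic
import Mathlib.LinearAlgebra.TensorProduct.Basis
import Mathlib.LinearAlgebra.Matrix.ToLin
import Mathlib.RingTheory.Ideal.Operations

/-!
Multiplications which are separable and associative modulo a square-zero ideal deform to associative
ones.
-/

universe u v

namespace Groth.Agent.BrauerXAz

open TensorProduct

variable {S : Type u} [CommRing S] {V : Type v} [AddCommGroup V] [Module S V]

/-- The sandwich map `x ⊗ y ↦ (z ↦ (xz)y)` of a bilinear multiplication. -/
noncomputable def sandwichMap (μ : V →ₗ[S] V →ₗ[S] V) : V ⊗[S] V →ₗ[S] (V →ₗ[S] V) :=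
  TensorProduct.lift (LinearMap.mk₂ S (fun x y => (μ.flip y) ∘ₗ μ x)
    (fun x x' y => by ext z; simp)
    (fun r x y => by ext z; simp)
    (fun x y y' => by ext z; simp)
    (fun r x y => by ext z; simp))

theorem sandwichMap_tmul (μ : V →ₗ[S] V →ₗ[S] V) (x y z : V) :
    sandwichMap μ (x ⊗ₜ y) z = μ (μ x z) y := rfl

theorem mem_smul_top_iff {ι : Type*} [Fintype ι] (b : Module.Basis ι S V) (J : Ideal S) (x : V) :
    x ∈ (J • ⊤ : Submodule S V) ↔ ∀ i, b.repr x i ∈ J := by
  constructor
  · intro hx i
    refine Submodule.smul_induction_on (p := fun x => b.repr x i ∈ J) hx (fun j hj y _ => ?_)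
      (fun y y' hy hy' => ?_)
    · simpa using J.mul_mem_right _ hj
    · simpa using J.add_mem hy hy'
  · intro h
    rw [← b.sum_repr x]
    exact Submodule.sum_mem _ fun i _ => Submodule.smul_mem_smul (h i) Submodule.mem_top

theorem map_mem_smul_top {W : Type*} [AddCommGroup W] [Module S W] (L : V →ₗ[S] W) {J : Ideal S}
    {x : V} (hx : x ∈ (J • ⊤ : Submodule S V)) : L x ∈ (J • ⊤ : Submodule S W) := by
  refine Submodule.smul_induction_on (p := fun x => L x ∈ (J • ⊤ : Submodule S W)) hx
    (fun j hj y _ => ?_) (fun y y' hy hy' => by rw [map_add]; exact Submodule.add_mem _ hy hy')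
  rw [map_smul]
  exact Submodule.smul_mem_smul hj Submodule.mem_top

theorem eq_zero_of_mem_smul_top {W X : Type*} [AddCommGroup W] [Module S W] [AddCommGroup X]
    [Module S X] (L : V →ₗ[S] W →ₗ[S] X) {J : Ideal S} (hJ : J ^ 2 = ⊥) {x : V}
    (hx : x ∈ (J • ⊤ : Submodule S V)) {y : W} (hy : y ∈ (J • ⊤ : Submodule S W)) : L x y = 0 := by
  refine Submodule.smul_induction_on (p := fun x => L x y = 0) hx (fun j hj z _ => ?_)
    (fun z z' hz hz' => by simp [hz, hz'])
  refine Submodule.smul_induction_on (p := fun y => L (j • z) y = 0) hy (fun j' hj' w _ => ?_)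
    (fun w w' hw hw' => by rw [map_add, hw, hw', add_zero])
  have h0 : j * j' = 0 := by
    rw [← Ideal.mem_bot, ← hJ, pow_two]; exact Ideal.mul_mem_mul hj hj'
  rw [map_smul, map_smul, LinearMap.smul_apply, smul_smul, mul_comm, h0, zero_smul]

theorem eq_zero_of_gg (g : V →ₗ[S] V →ₗ[S] V) {J : Ideal S} (hJ : J ^ 2 = ⊥)
    (hg : ∀ x y, g x y ∈ (J • ⊤ : Submodule S V)) (x y z : V) :
    g (g x y) z = 0 ∧ g x (g y z) = 0 := by
  constructor
  · refine Submodule.smul_induction_on (p := fun t => g t z = 0) (hg x y) (fun j hj t _ => ?_)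
      (fun t t' ht ht' => by simp [ht, ht'])
    rw [map_smul, LinearMap.smul_apply]
    exact eq_zero_of_mem_smul_top (LinearMap.lsmul S V) hJ
      (show j ∈ (J • ⊤ : Submodule S S) by simpa using hj) (hg t z)
  · refine Submodule.smul_induction_on (p := fun t => g x t = 0) (hg y z) (fun j hj t _ => ?_)
      (fun t t' ht ht' => by simp [ht, ht'])
    rw [map_smul]
    exact eq_zero_of_mem_smul_top (LinearMap.lsmul S V) hJ
      (show j ∈ (J • ⊤ : Submodule S S) by simpa using hj) (hg x t)

/-- Deforming a multiplication to an associative one. -/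
theorem exists_assoc_deform {ι : Type*} [Fintype ι] (b : Module.Basis ι S V) (o : ι) (J : Ideal S)
    (hJ : J ^ 2 = ⊥) (μ : V →ₗ[S] V →ₗ[S] V) (hl : ∀ x, μ (b o) x = x) (hr : ∀ x, μ x (b o) = x)
    (hassoc : ∀ x y z, μ (μ x y) z - μ x (μ y z) ∈ (J • ⊤ : Submodule S V))
    (hΦ : Function.Bijective (sandwichMap μ)) :
    ∃ μ' : V →ₗ[S] V →ₗ[S] V, (∀ x, μ' (b o) x = x) ∧ (∀ x, μ' x (b o) = x) ∧
      (∀ x y z, μ' (μ' x y) z = μ' x (μ' y z)) ∧
      ∀ x y, μ' x y - μ x y ∈ (J • ⊤ : Submodule S V) := by
  classical
  set K : Submodule S V := J • ⊤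
  let Φ := LinearEquiv.ofBijective (sandwichMap μ) hΦ
  -- the separability idempotent
  obtain ⟨w, hw⟩ := hΦ.2 ((b.coord o).smulRight (b o))
  have hw1 : TensorProduct.lift μ w = b o := by
    have h : ∀ z, TensorProduct.lift μ z = sandwichMap μ z (b o) := fun z => by
      induction z using TensorProduct.induction_on with
      | zero => simp
      | add p q hp hq => simp only [map_add, LinearMap.add_apply, hp, hq]
      | tmul p q => simp [sandwichMap_tmul, hr]
    rw [h, hw]
    simp
  have hEnd : ∀ F : V →ₗ[S] V, (∀ x, F x ∈ K) → F ∈ (J • ⊤ : Submodule S (V →ₗ[S] V)) := by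
    intro F hF
    have hsum : F = ∑ i, ∑ j, b.repr (F (b j)) i • (b.coord j).smulRight (b i) := b.ext fun p => by
      conv_lhs => rw [← b.sum_repr (F (b p))]
      simp [LinearMap.sum_apply, Finsupp.single_apply]
    rw [hsum]
    exact Submodule.sum_mem _ fun i _ => Submodule.sum_mem _ fun j _ =>
      Submodule.smul_mem_smul ((mem_smul_top_iff b J _).1 (hF _) i) Submodule.mem_top
  have hrel : ∀ a, LinearMap.rTensor V (μ a) w - LinearMap.lTensor V (μ.flip a) w ∈
      (J • ⊤ : Submodule S (V ⊗[S] V)) := by
    intro a
    have hL : ∀ t z, sandwichMap μ (LinearMap.rTensor V (μ a) t) z - μ a (sandwichMap μ t z) ∈ K := by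
      intro t z
      induction t using TensorProduct.induction_on with
      | zero => simp
      | add p q hp hq =>
        simp only [map_add, LinearMap.add_apply, add_sub_add_comm]
        exact K.add_mem hp hq
      | tmul p q =>
        simp only [LinearMap.rTensor_tmul, sandwichMap_tmul]
        have h1 := map_mem_smul_top (μ.flip q) (hassoc a p z)
        rw [map_sub] at h1
        simp only [LinearMap.flip_apply] at h1
        simpa using K.add_mem h1 (hassoc a (μ p z) q)
    have hR : ∀ t z, sandwichMap μ (LinearMap.lTensor V (μ.flip a) t) z - μ (sandwichMap μ t z) a ∈ K := by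
      intro t z
      induction t using TensorProduct.induction_on with
      | zero => simp
      | add p q hp hq =>
        simp only [map_add, LinearMap.add_apply, add_sub_add_comm]
        exact K.add_mem hp hq
      | tmul p q =>
        simp only [LinearMap.lTensor_tmul, sandwichMap_tmul, LinearMap.flip_apply]
        simpa using K.neg_mem (hassoc (μ p z) q a)
    have hmem : ∀ z, sandwichMap μ (LinearMap.rTensor V (μ a) w - LinearMap.lTensor V (μ.flip a) w) z ∈ K := by
      intro z
      have hwz : μ a (sandwichMap μ w z) = μ (sandwichMap μ w z) a := by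
        simp [hw, hl, hr]
      have := K.sub_mem (hL w z) (hR w z)
      simpa [hwz, map_sub] using this
    have := map_mem_smul_top (Φ.symm : (V →ₗ[S] V) →ₗ[S] V ⊗[S] V) (hEnd _ hmem)
    simpa [Φ] using this
  -- the associator and the correction
  let f : V → V → V → V := fun x y z => μ (μ x y) z - μ x (μ y z)
  let P : V → V → (V ⊗[S] V →ₗ[S] V) := fun a c => TensorProduct.lift (LinearMap.mk₂ S
    (fun x y => μ x (f y a c))
    (fun x x' y => by simp)
    (fun r x y => by simp)
    (fun x y y' => by simp [f]; abel)
    (fun r x y => by simp [f, smul_sub]))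
  have hP : ∀ a c x y, P a c (x ⊗ₜ y) = μ x (f y a c) := fun a c x y => rfl
  have hPmem : ∀ a c t, P a c t ∈ K := fun a c t => by
    induction t using TensorProduct.induction_on with
    | zero => simp
    | add p q hp hq => rw [map_add]; exact K.add_mem hp hq
    | tmul p q => exact map_mem_smul_top (μ p) (hassoc q a c)
  let g : V →ₗ[S] V →ₗ[S] V := LinearMap.mk₂ S (fun a c => P a c w)
    (fun a a' c => by
      have h : P (a + a') c = P a c + P a' c := TensorProduct.ext' fun x y => by
        simp [hP, f]; abel
      exact congrFun (congrArg DFunLike.coe h) w)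
    (fun r a c => by
      have h : P (r • a) c = r • P a c := TensorProduct.ext' fun x y => by
        simp [hP, f, smul_sub]
      exact congrFun (congrArg DFunLike.coe h) w)
    (fun a c c' => by
      have h : P a (c + c') = P a c + P a c' := TensorProduct.ext' fun x y => by
        simp [hP, f]; abel
      exact congrFun (congrArg DFunLike.coe h) w)
    (fun r a c => by
      have h : P a (r • c) = r • P a c := TensorProduct.ext' fun x y => by
        simp [hP, f, smul_sub]
      exact congrFun (congrArg DFunLike.coe h) w)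
  have hg : ∀ a c, g a c ∈ K := fun a c => hPmem a c w
  have hKassoc : ∀ x y z, (x ∈ K ∨ y ∈ K ∨ z ∈ K) → μ (μ x y) z = μ x (μ y z) := by
    intro x y z hxyz
    have lin : ∀ x y z, f x y z = 0 → μ (μ x y) z = μ x (μ y z) := fun x y z h => sub_eq_zero.1 h
    refine lin x y z ?_
    rcases hxyz with h | h | h
    · refine Submodule.smul_induction_on (p := fun x => f x y z = 0) h (fun j hj t _ => ?_)
        (fun t t' ht ht' => by
          calc f (t + t') y z = f t y z + f t' y z := by simp [f]; abel
            _ = 0 := by rw [ht, ht', add_zero])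
      have hfj : f (j • t) y z = j • f t y z := by simp [f, smul_sub]
      rw [hfj]
      exact eq_zero_of_mem_smul_top (LinearMap.lsmul S V) hJ
        (show j ∈ (J • ⊤ : Submodule S S) by simpa using hj) (hassoc t y z)
    · refine Submodule.smul_induction_on (p := fun y => f x y z = 0) h (fun j hj t _ => ?_)
        (fun t t' ht ht' => by
          calc f x (t + t') z = f x t z + f x t' z := by simp [f]; abel
            _ = 0 := by rw [ht, ht', add_zero])
      have hfj : f x (j • t) z = j • f x t z := by simp [f, smul_sub]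
      rw [hfj]
      exact eq_zero_of_mem_smul_top (LinearMap.lsmul S V) hJ
        (show j ∈ (J • ⊤ : Submodule S S) by simpa using hj) (hassoc x t z)
    · refine Submodule.smul_induction_on (p := fun z => f x y z = 0) h (fun j hj t _ => ?_)
        (fun t t' ht ht' => by
          calc f x y (t + t') = f x y t + f x y t' := by simp [f]; abel
            _ = 0 := by rw [ht, ht', add_zero])
      have hfj : f x y (j • t) = j • f x y t := by simp [f, smul_sub]
      rw [hfj]
      exact eq_zero_of_mem_smul_top (LinearMap.lsmul S V) hJ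
        (show j ∈ (J • ⊤ : Submodule S S) by simpa using hj) (hassoc x y t)
  have hδ : ∀ a c d, f a c d = μ a (g c d) - g (μ a c) d + g a (μ c d) - μ (g a c) d := by
    intro a c d
    have h1 : ∀ t, μ a (P c d t) = P c d (LinearMap.rTensor V (μ a) t) := fun t => by
      induction t using TensorProduct.induction_on with
      | zero => simp
      | add p q hp hq => simp only [map_add, hp, hq]
      | tmul p q =>
        rw [LinearMap.rTensor_tmul, hP, hP]
        exact (hKassoc a p (f q c d) (Or.inr (Or.inr (hassoc q c d)))).symm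
    have h2 : P c d (LinearMap.rTensor V (μ a) w) = P c d (LinearMap.lTensor V (μ.flip a) w) := by
      rw [← sub_eq_zero, ← map_sub]
      refine Submodule.smul_induction_on (p := fun t => P c d t = 0) (hrel a) (fun j hj t _ => ?_)
        (fun t t' ht ht' => by rw [map_add, ht, ht', add_zero])
      rw [map_smul]
      exact eq_zero_of_mem_smul_top (LinearMap.lsmul S V) hJ
        (show j ∈ (J • ⊤ : Submodule S S) by simpa using hj) (hPmem c d t)
    have h3 : ∀ t, μ (TensorProduct.lift μ t) (f a c d) + μ (P a c t) d -
        P c d (LinearMap.lTensor V (μ.flip a) t) + P (μ a c) d t - P a (μ c d) t = 0 := fun t => by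
      induction t using TensorProduct.induction_on with
      | zero => simp
      | add p q hp hq =>
        simp only [map_add, LinearMap.add_apply] at *
        calc _ = (μ (TensorProduct.lift μ p) (f a c d) + μ (P a c p) d -
            P c d (LinearMap.lTensor V (μ.flip a) p) + P (μ a c) d p - P a (μ c d) p) +
            (μ (TensorProduct.lift μ q) (f a c d) + μ (P a c q) d -
            P c d (LinearMap.lTensor V (μ.flip a) q) + P (μ a c) d q - P a (μ c d) q) := by abel
          _ = 0 := by rw [hp, hq, add_zero]
      | tmul p q =>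
        simp only [LinearMap.lTensor_tmul, LinearMap.flip_apply, hP, TensorProduct.lift.tmul]
        rw [hKassoc p q (f a c d) (Or.inr (Or.inr (hassoc a c d))),
          hKassoc p (f q a c) d (Or.inr (Or.inl (hassoc q a c))), ← map_add, ← map_sub, ← map_add,
          ← map_sub]
        rw [show μ q (f a c d) + μ (f q a c) d - f (μ q a) c d + f q (μ a c) d - f q a (μ c d) = 0 by
          simp [f]; abel, map_zero]
    have h4 := h3 w
    rw [hw1, hl, ← h2, ← h1] at h4
    show f a c d = μ a (P c d w) - P (μ a c) d w + P a (μ c d) w - μ (P a c w) d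
    calc f a c d = (f a c d + μ (P a c w) d - μ a (P c d w) + P (μ a c) d w - P a (μ c d) w) +
        (μ a (P c d w) - P (μ a c) d w + P a (μ c d) w - μ (P a c w) d) := by abel
      _ = _ := by rw [h4, zero_add]
  have hgl : ∀ c, g (b o) c = 0 := fun c => by
    have h : P (b o) c = 0 := TensorProduct.ext' fun x y => by simp [hP, f, hl, hr]
    show P (b o) c w = 0
    rw [h, LinearMap.zero_apply]
  have hgr : ∀ c, g c (b o) = 0 := fun c => by
    have h : P c (b o) = 0 := TensorProduct.ext' fun x y => by simp [hP, f, hr]
    show P c (b o) w = 0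
    rw [h, LinearMap.zero_apply]
  refine ⟨μ + g, fun x => by simp [hl, hgl], fun x => by simp [hr, hgr], fun x y z => ?_,
    fun x y => by simpa using hg x y⟩
  have e1 : g (g x y) z = 0 :=
    eq_zero_of_gg g hJ hg x y z |>.1
  have e2 : g x (g y z) = 0 :=
    eq_zero_of_gg g hJ hg x y z |>.2
  simp only [LinearMap.add_apply, map_add, e1, e2, add_zero]
  have := hδ x y z
  simp only [f] at this
  rw [← sub_eq_zero]
  calc _ = (μ (μ x y) z - μ x (μ y z)) -
      (μ x (g y z) - g (μ x y) z + g x (μ y z) - μ (g x y) z) := by abel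
    _ = 0 := by rw [this, sub_self]

end Groth.Agent.BrauerXAz
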