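import Groth.Agent.BrauerXAz.Points
import Groth.Agent.CSALib.SepIdem
import Groth.Agent.AzumayaX.Fibres
import Mathlib.RingTheory.LocalRing.Module
import Mathlib.LinearAlgebra.TensorProduct.Basis
import Mathlib.RingTheory.TensorProduct.Free

/-!
Homomorphisms out of separable algebras deform, and lift over henselian local rings.
-/

universe u v w

set_option linter.style.haveILetI false

namespace Groth.Agent.BrauerXAz

open TensorProduct CSALib

variable {R : Type u} [CommRing R]

/-- Homomorphisms out of a separable algebra lift along square-zero extensions. -/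
theorem exists_hom_deform {A : Type v} [Ring A] [Algebra R A] (hA : HasSepIdem R A)
    {C : Type w} [Ring C] [Algebra R C] (K : Submodule R C) (hl : ∀ (x : C), ∀ k ∈ K, x * k ∈ K)
    (hr : ∀ (x : C), ∀ k ∈ K, k * x ∈ K) (hK : ∀ k ∈ K, ∀ l ∈ K, k * l = 0)
    (φ : A →ₗ[R] C) (hmul : ∀ a b, φ (a * b) - φ a * φ b ∈ K) (hone : φ 1 - 1 ∈ K) :
    ∃ ψ : A →ₐ[R] C, ∀ a, ψ a - φ a ∈ K := by
  obtain ⟨e, he1, he2⟩ := hA
  -- the defect
  let f : A → A → C := fun a b => φ (a * b) - φ a * φ b
  let pair : A → (A ⊗[R] A →ₗ[R] C) := fun a => TensorProduct.lift (LinearMap.mk₂ R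
    (fun x y => φ x * f y a)
    (fun x x' y => by simp [add_mul])
    (fun r x y => by simp)
    (fun x y y' => by simp [f, add_mul, mul_add, mul_sub]; abel)
    (fun r x y => by simp [f, mul_sub, smul_sub]))
  have hpair : ∀ a x y, pair a (x ⊗ₜ y) = φ x * f y a := fun a x y => rfl
  have hpadd : ∀ a b z, pair (a + b) z = pair a z + pair b z := fun a b z => by
    induction z using TensorProduct.induction_on with
    | zero => simp
    | add p q hp hq => simp only [map_add, hp, hq]; abel
    | tmul x y => simp [hpair, f, mul_add, mul_sub]; abel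
  have hpsmul : ∀ (r : R) a z, pair (r • a) z = r • pair a z := fun r a z => by
    induction z using TensorProduct.induction_on with
    | zero => simp
    | add p q hp hq => simp only [map_add, hp, hq, smul_add]
    | tmul x y => simp [hpair, f, mul_sub, smul_sub]
  have hmem : ∀ a z, pair a z ∈ K := fun a z => by
    induction z using TensorProduct.induction_on with
    | zero => simp
    | add p q hp hq => rw [map_add]; exact K.add_mem hp hq
    | tmul x y => exact hl _ _ (hmul y a)
  let g : A →ₗ[R] C :=
    { toFun := fun a => pair a e, map_add' := fun a b => hpadd a b e,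
      map_smul' := fun r a => hpsmul r a e }
  have hkill : ∀ (x x' y : C), x - x' ∈ K → y ∈ K → x * y = x' * y := fun x x' y hx hy => by
    rw [← sub_eq_zero, ← sub_mul, hK _ hx _ hy]
  have key : ∀ a b, f a b = φ a * g b - g (a * b) + g a * φ b := by
    intro a b
    have h1 : ∀ z, φ a * pair b z = pair b ((a ⊗ₜ[R] (1 : A)) * z) := fun z => by
      induction z using TensorProduct.induction_on with
      | zero => simp
      | add p q hp hq => simp only [mul_add, map_add, hp, hq]
      | tmul x y =>
        simp only [hpair, Algebra.TensorProduct.tmul_mul_tmul, one_mul, ← mul_assoc]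
        exact hkill _ _ _ (by simpa using K.neg_mem (hmul a x)) (hmul y b)
    have h2 : ∀ z, φ (LinearMap.mul' R A z) * f a b - pair b (z * ((1 : A) ⊗ₜ[R] a)) +
        pair (a * b) z - pair a z * φ b = 0 := fun z => by
      induction z using TensorProduct.induction_on with
      | zero => simp
      | add p q hp hq =>
        simp only [map_add, add_mul] at *
        calc _ = (φ (LinearMap.mul' R A p) * f a b - pair b (p * ((1 : A) ⊗ₜ[R] a)) + pair (a * b) p -
              pair a p * φ b) + (φ (LinearMap.mul' R A q) * f a b - pair b (q * ((1 : A) ⊗ₜ[R] a)) +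
              pair (a * b) q - pair a q * φ b) := by abel
          _ = 0 := by rw [hp, hq, add_zero]
      | tmul x y =>
        simp only [hpair, Algebra.TensorProduct.tmul_mul_tmul, mul_one, LinearMap.mul'_apply]
        rw [hkill (φ (x * y)) (φ x * φ y) _ (hmul x y) (hmul a b)]
        simp only [f, mul_sub, sub_mul, mul_assoc]
        abel
    have h3 := h2 e
    rw [he1, hkill (φ 1) 1 _ hone (hmul a b), one_mul, ← he2, ← h1] at h3
    show f a b = φ a * pair b e - pair (a * b) e + pair a e * φ b
    calc f a b = (f a b - φ a * pair b e + pair (a * b) e - pair a e * φ b) +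
        (φ a * pair b e - pair (a * b) e + pair a e * φ b) := by abel
      _ = _ := by rw [h3, zero_add]
  let ψ₀ : A →ₗ[R] C := φ + g
  have hψmul : ∀ a b, ψ₀ (a * b) = ψ₀ a * ψ₀ b := fun a b => by
    have h := key a b
    simp only [ψ₀, LinearMap.add_apply, add_mul, mul_add, hK _ (hmem a e) _ (hmem b e),
      show g a * g b = 0 from hK _ (hmem a e) _ (hmem b e)]
    calc φ (a * b) + g (a * b) = φ a * φ b + f a b + g (a * b) := by simp [f]
      _ = _ := by rw [h]; abel
  have hψone : ψ₀ 1 = 1 := by
    have hm : 1 - ψ₀ 1 ∈ K := by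
      have : 1 - ψ₀ 1 = -(φ 1 - 1) - g 1 := by simp [ψ₀]; abel
      rw [this]
      exact K.sub_mem (K.neg_mem hone) (hmem 1 e)
    have h := hK _ hm _ hm
    rw [sub_mul, mul_sub, mul_sub, ← hψmul, one_mul, one_mul, mul_one, mul_one, sub_self,
      sub_zero, sub_eq_zero] at h
    exact h.symm
  exact ⟨AlgHom.ofLinearMap ψ₀ hψone hψmul, fun a => by
    show φ a + g a - φ a ∈ K
    rw [add_sub_cancel_left]
    exact hmem a e⟩

/-- An Azumaya algebra over a local ring has a separability idempotent. -/
theorem hasSepIdem_of_isAzumaya [IsLocalRing R] (A : Type v) [Ring A] [Algebra R A] [IsAzumaya R A] :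
    HasSepIdem R A := by
  classical
  obtain ⟨π, hπ1⟩ : ∃ π : A →ₗ[R] R, π 1 = 1 := by
    haveI : Module.Free R A := Module.free_of_flat_of_isLocalRing
    let b := Module.Free.chooseBasis R A
    by_cases h : ∃ i, IsUnit (b.repr 1 i)
    · obtain ⟨i, hi⟩ := h
      exact ⟨(hi.unit⁻¹ : Rˣ).val • b.coord i, by simp⟩
    · push Not at h
      exfalso
      haveI := AzumayaX.isAzumaya_baseChange R (IsLocalRing.ResidueField R) A
      haveI := AzumayaX.nontrivial_of_isAzumaya (IsLocalRing.ResidueField R)
        (IsLocalRing.ResidueField R ⊗[R] A)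
      refine one_ne_zero (α := IsLocalRing.ResidueField R ⊗[R] A)
        ((Algebra.TensorProduct.basis (IsLocalRing.ResidueField R) b).ext_elem fun i => ?_)
      rw [Algebra.TensorProduct.one_def, Algebra.TensorProduct.basis_repr_tmul, map_zero]
      simp only [one_smul, Finsupp.mapRange_apply, Finsupp.coe_zero, Pi.zero_apply]
      exact (IsLocalRing.residue_eq_zero_iff _).2 (h i)
  obtain ⟨w, hw⟩ := (IsAzumaya.bij (R := R) (A := A)).2 (π.smulRight (1 : A))
  let u := (MulOpposite.opLinearEquiv R (M := A)).symm.toLinearMap.lTensor A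
  refine ⟨u w, ?_, fun a => ?_⟩
  · have h1 : AlgHom.mulLeftRight R A w 1 = 1 := by simp [hw, hπ1]
    rw [← h1]
    clear hw h1
    induction w using TensorProduct.induction_on with
    | zero => simp
    | tmul x y => simp [u]
    | add x y hx hy => simp only [map_add, LinearMap.add_apply, hx, hy]
  · have hl : ∀ z, u ((a ⊗ₜ[R] (1 : Aᵐᵒᵖ)) * z) = (a ⊗ₜ[R] (1 : A)) * u z := fun z => by
      induction z using TensorProduct.induction_on with
      | zero => simp
      | tmul x y => simp [u]
      | add x y hx hy => simp only [mul_add, map_add, hx, hy]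
    have hr : ∀ z, u (((1 : A) ⊗ₜ[R] MulOpposite.op a) * z) = u z * ((1 : A) ⊗ₜ[R] a) := fun z => by
      induction z using TensorProduct.induction_on with
      | zero => simp
      | tmul x y => simp [u]
      | add x y hx hy => simp only [mul_add, add_mul, map_add, hx, hy]
    rw [← hl, ← hr]
    congr 1
    refine (IsAzumaya.bij (R := R) (A := A)).1 ?_
    rw [map_mul, map_mul, hw]
    refine LinearMap.ext fun x => ?_
    simp [Algebra.commutes]

section Coordinates

open MvPolynomial

variable {A : Type u} [Ring A] [Algebra R A] {B : Type u} [Ring B] [Algebra R B]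
  {ι κ : Type u} [Fintype ι] [Fintype κ] (bA : Module.Basis ι R A) (bB : Module.Basis κ R B)

/-- The equations satisfied by the matrix of an algebra homomorphism. -/
noncomputable def homEqs : (ι × ι × κ) ⊕ κ → MvPolynomial (ι × κ) R
  | .inl (i, i', l) => (∑ p, C (bA.repr (bA i * bA i') p) * X (p, l)) -
      ∑ j, ∑ j', X (i, j) * X (i', j') * C (bB.repr (bB j * bB j') l)
  | .inr l => (∑ p, C (bA.repr 1 p) * X (p, l)) - C (bB.repr 1 l)

variable {S : Type w} [CommRing S] [Algebra R S] {T : Type*} [Ring T] [Algebra R T] [Algebra S T]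
  [IsScalarTower R S T]

/-- The linear map with a given matrix. -/
noncomputable def matMap (bT : Module.Basis κ S T) (c : ι × κ → S) : A →ₗ[R] T :=
  bA.constr R fun i => ∑ j, c (i, j) • bT j

theorem repr_matMap (bT : Module.Basis κ S T) (c : ι × κ → S) (x : A) (l : κ) :
    bT.repr (matMap bA bT c x) l = ∑ i, algebraMap R S (bA.repr x i) * c (i, l) := by
  classical
  have h : matMap bA bT c x = ∑ i, algebraMap R S (bA.repr x i) • ∑ j, c (i, j) • bT j := by
    conv_lhs => rw [← bA.sum_repr x]
    rw [map_sum]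
    exact Finset.sum_congr rfl fun i _ => by rw [map_smul, matMap, bA.constr_basis, algebraMap_smul]
  rw [h]
  simp [-algebraMap_smul, Finsupp.single_apply]

theorem repr_rho (ρ : B →ₐ[R] T) (bT : Module.Basis κ S T) (hρ : ∀ j, ρ (bB j) = bT j) (z : B)
    (l : κ) : bT.repr (ρ z) l = algebraMap R S (bB.repr z l) := by
  classical
  have h : ρ z = ∑ j, algebraMap R S (bB.repr z j) • bT j := by
    conv_lhs => rw [← bB.sum_repr z]
    rw [map_sum]
    exact Finset.sum_congr rfl fun j _ => by rw [map_smul, hρ, algebraMap_smul]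
  rw [h]
  simp [-algebraMap_smul, Finsupp.single_apply]

theorem repr_defect (ρ : B →ₐ[R] T) (bT : Module.Basis κ S T) (hρ : ∀ j, ρ (bB j) = bT j)
    (c : ι × κ → S) (i i' : ι) (l : κ) :
    bT.repr (matMap bA bT c (bA i * bA i') -
      matMap bA bT c (bA i) * matMap bA bT c (bA i')) l =
      aeval c (homEqs bA bB (.inl (i, i', l))) := by
  classical
  have hprod : ∀ j j', bT.repr (bT j * bT j') l = algebraMap R S (bB.repr (bB j * bB j') l) := by
    intro j j'
    rw [← hρ, ← hρ, ← map_mul, repr_rho bB ρ bT hρ]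
  have hgen : ∀ i, matMap bA bT c (bA i) = ∑ j, c (i, j) • bT j := fun i => bA.constr_basis R _ i
  rw [map_sub, Finsupp.sub_apply, repr_matMap, hgen, hgen, homEqs, Finset.sum_mul_sum]
  simp [hprod, mul_assoc]
  exact Finset.sum_congr rfl fun _ _ => Finset.sum_congr rfl fun _ _ => by ring

theorem repr_one_defect (ρ : B →ₐ[R] T) (bT : Module.Basis κ S T) (hρ : ∀ j, ρ (bB j) = bT j)
    (c : ι × κ → S) (l : κ) :
    bT.repr (matMap bA bT c 1 - 1) l = aeval c (homEqs bA bB (.inr l)) := by
  classical
  rw [map_sub, Finsupp.sub_apply, repr_matMap, ← map_one ρ, repr_rho bB ρ bT hρ]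
  simp [homEqs]

theorem matMap_coord (bT : Module.Basis κ S T) (ψ : A →ₗ[R] T) :
    matMap bA bT (fun p => bT.repr (ψ (bA p.1)) p.2) = ψ :=
  bA.ext fun i => by rw [matMap, bA.constr_basis]; exact bT.sum_repr (ψ (bA i))

end Coordinates

/-- The equations of homomorphisms out of a separable algebra lift infinitesimally. -/
theorem homEqs_infinitesimal {A : Type u} [Ring A] [Algebra R A] (hA : HasSepIdem R A) {B : Type u}
    [Ring B] [Algebra R B] {ι κ : Type u} [Fintype ι] [Fintype κ] (bA : Module.Basis ι R A)
    (bB : Module.Basis κ R B) (S : Type u) [CommRing S] [Algebra R S] (J : Ideal S) (hJ : J ^ 2 = ⊥)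
    (c : ι × κ → S) (hc : ∀ k, MvPolynomial.aeval c (homEqs bA bB k) ∈ J) :
    ∃ c' : ι × κ → S, (∀ i, c' i - c i ∈ J) ∧ ∀ k, MvPolynomial.aeval c' (homEqs bA bB k) = 0 := by
  classical
  let bS := Algebra.TensorProduct.basis S bB
  let ρ : B →ₐ[R] S ⊗[R] B := Algebra.TensorProduct.includeRight
  have hρ : ∀ j, ρ (bB j) = bS j := fun j => (Algebra.TensorProduct.basis_apply bB j).symm
  let K : Submodule R (S ⊗[R] B) :=
    (J • ⊤ : Submodule S (S ⊗[R] B)).restrictScalars R
  have hK : ∀ z, z ∈ K ↔ z ∈ (J • ⊤ : Submodule S (S ⊗[R] B)) := fun z => Iff.rfl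
  have hKiff : ∀ z, z ∈ K ↔ ∀ l, bS.repr z l ∈ J := fun z => by
    rw [hK]
    constructor
    · intro hz l
      refine Submodule.smul_induction_on (p := fun z => bS.repr z l ∈ J) hz
        (fun j hj y _ => ?_) (fun y y' hy hy' => ?_)
      · simpa using J.mul_mem_right _ hj
      · simpa using J.add_mem hy hy'
    · intro h
      rw [← bS.sum_repr z]
      exact Submodule.sum_mem _ fun l _ => Submodule.smul_mem_smul (h l) Submodule.mem_top
  obtain ⟨ψ, hψ⟩ := exists_hom_deform hA K
    (fun x k hk => by
      refine Submodule.smul_induction_on (p := fun k => x * k ∈ K) ((hK _).1 hk) (fun j hj y _ => ?_)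
        (fun y y' hy hy' => by rw [mul_add]; exact K.add_mem hy hy')
      rw [mul_smul_comm]
      exact (hK _).2 (Submodule.smul_mem_smul hj Submodule.mem_top))
    (fun x k hk => by
      refine Submodule.smul_induction_on (p := fun k => k * x ∈ K) ((hK _).1 hk) (fun j hj y _ => ?_)
        (fun y y' hy hy' => by rw [add_mul]; exact K.add_mem hy hy')
      rw [smul_mul_assoc]
      exact (hK _).2 (Submodule.smul_mem_smul hj Submodule.mem_top))
    (fun k hk k' hk' => by
      refine Submodule.smul_induction_on (p := fun k => k * k' = 0) ((hK _).1 hk) (fun j hj y _ => ?_)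
        (fun y y' hy hy' => by rw [add_mul, hy, hy', add_zero])
      refine Submodule.smul_induction_on (p := fun k' => j • y * k' = 0) ((hK _).1 hk') (fun j' hj' y' _ => ?_)
        (fun z z' hz hz' => by rw [mul_add, hz, hz', add_zero])
      have h0 : j * j' = 0 := by
        rw [← Ideal.mem_bot, ← hJ, pow_two]; exact Ideal.mul_mem_mul hj hj'
      rw [smul_mul_smul_comm, h0, zero_smul])
    (matMap bA bS c)
    (fun x y => by
      have hlin : ∀ x y, (LinearMap.mul R A).compr₂ (matMap bA bS c) x y -
          (LinearMap.mul R (S ⊗[R] B)).compl₁₂ (matMap bA bS c) (matMap bA bS c) x y ∈ K := by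
        intro x y
        rw [← bA.sum_repr x, ← bA.sum_repr y]
        simp only [map_sum, map_smul, LinearMap.sum_apply, LinearMap.smul_apply, ← Finset.sum_sub_distrib,
          ← smul_sub]
        refine K.sum_mem fun i' _ => K.smul_mem _ (K.sum_mem fun i _ => K.smul_mem _ ?_)
        refine (hKiff _).2 fun l => ?_
        simp only [LinearMap.compr₂_apply, LinearMap.mul_apply', LinearMap.compl₁₂_apply]
        rw [repr_defect bA bB ρ bS hρ]
        exact hc _
      simpa using hlin x y)
    ((hKiff _).2 fun l => by rw [repr_one_defect bA bB ρ bS hρ]; exact hc _)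
  refine ⟨fun p => bS.repr (ψ (bA p.1)) p.2, fun p => ?_, fun k => ?_⟩
  · have := (hKiff _).1 (hψ (bA p.1)) p.2
    simpa [matMap, Finsupp.single_apply] using this
  · have hm := matMap_coord bA bS ψ.toLinearMap
    simp only [AlgHom.toLinearMap_apply] at hm
    rcases k with ⟨i, i', l⟩ | l
    · rw [← repr_defect bA bB ρ bS hρ, hm]; simp
    · rw [← repr_one_defect bA bB ρ bS hρ, hm]; simp

/-- An isomorphism of the closed fibres of Azumaya algebras over a henselian local ring lifts. -/
theorem exists_algEquiv_lift [HenselianLocalRing R] (A : Type u) [Ring A] [Algebra R A]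
    [IsAzumaya R A] (B : Type u) [Ring B] [Algebra R B] [IsAzumaya R B]
    (e₀ : (IsLocalRing.ResidueField R ⊗[R] A) ≃ₐ[IsLocalRing.ResidueField R]
      (IsLocalRing.ResidueField R ⊗[R] B)) :
    ∃ e : A ≃ₐ[R] B, ∀ a : A, e₀ ((1 : IsLocalRing.ResidueField R) ⊗ₜ[R] a) =
      (1 : IsLocalRing.ResidueField R) ⊗ₜ[R] (e a) := by
  classical
  set k := IsLocalRing.ResidueField R
  haveI : Module.Free R A := Module.free_of_flat_of_isLocalRing
  haveI : Module.Free R B := Module.free_of_flat_of_isLocalRing
  let bA := Module.Free.chooseBasis R A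
  let bB := Module.Free.chooseBasis R B
  let bk := Algebra.TensorProduct.basis k bB
  let ρk : B →ₐ[R] k ⊗[R] B := Algebra.TensorProduct.includeRight
  have hρk : ∀ j, ρk (bB j) = bk j := fun j => (Algebra.TensorProduct.basis_apply bB j).symm
  choose a ha using fun p : Module.Free.ChooseBasisIndex R A × Module.Free.ChooseBasisIndex R B =>
    IsLocalRing.residue_surjective (R := R) (bk.repr (e₀ (1 ⊗ₜ bA p.1)) p.2)
  have hφ₀ : ∀ x, matMap bA bk (fun p => algebraMap R k (a p)) x = e₀ (1 ⊗ₜ x) := by
    refine fun x => LinearMap.congr_fun (f := matMap bA bk (fun p => algebraMap R k (a p)))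
      (g := (e₀.toLinearMap.restrictScalars R) ∘ₗ TensorProduct.mk R k A 1) (bA.ext fun i => ?_) x
    rw [matMap, bA.constr_basis]
    show _ = e₀ (1 ⊗ₜ bA i)
    conv_rhs => rw [← bk.sum_repr (e₀ (1 ⊗ₜ bA i))]
    exact Finset.sum_congr rfl fun j _ => by rw [← ha (i, j)]; rfl
  have hA := hasSepIdem_of_isAzumaya (R := R) A
  obtain ⟨c, hca, hc⟩ := exists_solution_of_infinitesimal (IsLocalRing.maximalIdeal R) (homEqs bA bB)
    (fun S _ _ J hJ c hc => homEqs_infinitesimal hA bA bB S J hJ c hc)
    a (fun p => by
      rw [← IsLocalRing.residue_eq_zero_iff]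
      show algebraMap R k (MvPolynomial.eval a (homEqs bA bB p)) = 0
      rw [← MvPolynomial.aeval_eq_eval, ← MvPolynomial.aeval_algebraMap_apply]
      rcases p with ⟨i, i', l⟩ | l
      · rw [← repr_defect bA bB ρk bk hρk]
        simp [Function.comp_def, hφ₀, ← map_mul]
      · rw [← repr_one_defect bA bB ρk bk hρk]
        simp [Function.comp_def, hφ₀, ← Algebra.TensorProduct.one_def])
  let φ := matMap bA bB c
  have hmul : ∀ x y, φ (x * y) = φ x * φ y := by
    intro x y
    have hh : (LinearMap.mul R A).compr₂ φ = (LinearMap.mul R B).compl₁₂ φ φ :=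
      bA.ext fun i => bA.ext fun i' => sub_eq_zero.1 (bB.ext_elem fun l => by
        simp only [LinearMap.compr₂_apply, LinearMap.mul_apply', LinearMap.compl₁₂_apply, φ]
        rw [repr_defect bA bB (AlgHom.id R B) bB (fun _ => rfl), MvPolynomial.aeval_eq_eval, hc]
        simp)
    exact LinearMap.congr_fun₂ hh x y
  have hone : φ 1 = 1 := sub_eq_zero.1 (bB.ext_elem fun l => by
    simp only [φ]
    rw [repr_one_defect bA bB (AlgHom.id R B) bB (fun _ => rfl), MvPolynomial.aeval_eq_eval, hc]
    simp)
  have hcomp : ∀ x, e₀ ((1 : k) ⊗ₜ[R] x) = (1 : k) ⊗ₜ[R] (φ x) := fun x => by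
    rw [← hφ₀]
    refine bk.ext_elem fun l => ?_
    rw [repr_matMap, Algebra.TensorProduct.basis_repr_tmul]
    simp only [one_smul, Finsupp.mapRange_apply, φ, repr_matMap, map_sum, map_mul,
      Algebra.algebraMap_self, RingHom.id_apply]
    refine Finset.sum_congr rfl fun i _ => ?_
    congr 1
    exact (IsLocalRing.residue_eq_zero_iff _).2 (hca (i, l)) |> fun h => by
      rw [map_sub, sub_eq_zero] at h
      exact h.symm
  have hsurj : Function.Surjective φ := by
    rw [← LinearMap.range_eq_top, ← IsLocalRing.map_tensorProduct_mk_eq_top (R := R), eq_top_iff]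
    rintro z -
    obtain ⟨y, rfl⟩ := e₀.surjective z
    induction y using TensorProduct.induction_on with
    | zero => simp
    | add p q hp hq => rw [map_add]; exact Submodule.add_mem _ hp hq
    | tmul r x =>
      obtain ⟨r, rfl⟩ := IsLocalRing.residue_surjective (R := R) r
      refine ⟨φ (r • x), ⟨_, rfl⟩, ?_⟩
      show (1 : k) ⊗ₜ[R] φ (r • x) = _
      rw [← hcomp, ← TensorProduct.smul_tmul, Algebra.smul_def, mul_one]
      rfl
  have hrank : Module.finrank R A = Module.finrank R B := by
    rw [← Module.finrank_baseChange (R := k) (S := R) (M' := A),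
      ← Module.finrank_baseChange (R := k) (S := R) (M' := B)]
    exact e₀.toLinearEquiv.finrank_eq
  let σ := LinearEquiv.ofFinrankEq B A hrank.symm
  have hinj : Function.Injective φ := fun x y hxy => by
    have := OrzechProperty.injective_of_surjective_endomorphism (σ.toLinearMap ∘ₗ φ)
      (σ.surjective.comp hsurj)
    exact this (congrArg σ hxy)
  exact ⟨AlgEquiv.ofBijective (AlgHom.ofLinearMap φ hone hmul) ⟨hinj, hsurj⟩, hcomp⟩

end Groth.Agent.BrauerXAz
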